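import Cfsg.Agent.Lib.JankoFourPGL.Main
import Cfsg.Agent.Lib.JankoFourEleven.Suborbit

/-!
The projective general linear group over the field of 23 elements from the order alone (owner: helper8).
-/

set_option autoImplicit false

namespace CfsgLib.JankoFourPGL

open Cfsg CfsgLib.JankoFourLocals

theorem pgl_of_order {G : Type*} [Group G] [Finite G] [IsSimpleGroup G] (hG : ¬ IsMulCommutative G)
    (hJ : IsOfJankoFourType G) (hord : Nat.card G = ord4) :
    ∃ K : Subgroup G, Nonempty (↥K ≃* GL (Fin 2) (ZMod 23) ⧸ Subgroup.center (GL (Fin 2) (ZMod 23))) := by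
  refine pgl_twentythree hG hJ hord fun z hz x t hx ht hnc hxt => ?_
  refine (CfsgLib.JankoFour.Eleven.Hyp.t_cent ⟨hG, hz, hord, fun p hp y g hy hg => ?_⟩ hx ht hnc hxt)
  rw [← self_centralising hG hJ hord (p := p) (by exact hp) hy]
  exact Subgroup.mem_centralizer_singleton_iff.2 hg.eq

end CfsgLib.JankoFourPGL
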