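import Cfsg.Agent.Lib.JankoFourPGL.Proj
import Cfsg.Agent.Lib.JankoFourLocals.Facts
import Cfsg.Agent.Lib.JankoFourEleven.Tools
import Cfsg.Agent.Lib.JankoFourTen.Normalizer

/-!
A projective general linear group over the field of 23 elements in a group of Janko-four type: the half of it
lies in a complement to the elementary abelian group of order `2 ^ 11` in its normaliser, or in the complement
twisted by a duad, and the outer involution normalises it (owner: helper8).
-/

set_option autoImplicit false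
set_option maxHeartbeats 800000
set_option maxRecDepth 8000

namespace CfsgLib.JankoFourPGL

open Cfsg CfsgLib.Sporadic CfsgLib.JankoFour CfsgLib.JankoFourHexad CfsgLib.JankoFour.Ten CfsgLib.JankoFourLocals

variable {G : Type*} [Group G] [Finite G]

theorem exists_ext_inv {X N : G} (hX : orderOf X = 23)
    (hC : Subgroup.centralizer ({X} : Set G) = Subgroup.zpowers X) (hN : orderOf N = 11)
    (hNX : N * X * N⁻¹ = X ^ 2) (hA : autCard (Subgroup.zpowers X) = 22) :
    ∃ d : G, d * d = 1 ∧ d ≠ 1 ∧ d * X * d = X⁻¹ ∧ Commute d N := by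
  classical
  haveI : Fact (Nat.Prime 11) := ⟨by norm_num⟩
  have hcard : Nat.card ↥(Subgroup.zpowers X) = 23 := by rw [Nat.card_zpowers, hX]
  have hcent : cent (Subgroup.zpowers X) = Subgroup.zpowers X := by
    refine le_antisymm (fun c hc => hC ▸ ?_) (comm_of_prime_card (by norm_num) hcard)
    exact Subgroup.mem_centralizer_singleton_iff.2 (commute_of_mem_cent hc (Subgroup.mem_zpowers X)).eq
  obtain ⟨g, hgN, hgo, hgC⟩ := exists_mover (r := 2) Nat.prime_two (U := Subgroup.zpowers X)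
    (hA ▸ by norm_num) (by rw [hcent, hcard]; norm_num)
  have hg2 : g * g = 1 := by rw [← pow_two, ← hgo, pow_orderOf_eq_one]
  have hgi : g⁻¹ = g := inv_eq_of_mul_eq_one_right hg2
  obtain ⟨k, hk⟩ := Subgroup.mem_zpowers_iff.1
    ((Subgroup.mem_normalizer_iff.1 hgN X).1 (Subgroup.mem_zpowers X))
  have hkk : X ^ (k * k) = X := by
    rw [zpow_mul]
    nth_rewrite 1 [hk]
    rw [conj_zpow, hk]
    rw [hgi]
    calc g * (g * X * g) * g = g * g * X * (g * g) := by group
      _ = X := by rw [hg2]; group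
  have hdiv : (23 : ℤ) ∣ k * k - 1 := by
    have : X ^ (k * k - 1) = 1 := by rw [zpow_sub, hkk, zpow_one, mul_inv_cancel]
    have := orderOf_dvd_iff_zpow_eq_one.2 this
    rwa [hX] at this
  have hgX : g * X * g = X⁻¹ := by
    rw [show k * k - 1 = (k - 1) * (k + 1) by ring] at hdiv
    rcases (Int.prime_iff_natAbs_prime.2 (by norm_num) : Prime (23 : ℤ)).dvd_mul.1 hdiv with h | h
    · exfalso
      apply hgC
      have e : X ^ k = X := by
        have h1 : X ^ (k - 1) = 1 := orderOf_dvd_iff_zpow_eq_one.1 (by rw [hX]; exact h)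
        rw [zpow_sub, zpow_one, mul_inv_eq_one] at h1
        exact h1
      rw [hcent, ← hC, Subgroup.mem_centralizer_singleton_iff]
      exact mul_inv_eq_iff_eq_mul.1 (hk.symm.trans e)
    · have h1 : X ^ (k + 1) = 1 := orderOf_dvd_iff_zpow_eq_one.1 (by rw [hX]; exact h)
      rw [zpow_add, zpow_one, hk, hgi] at h1
      exact eq_inv_of_mul_eq_one_left h1
  let s : Set G := {a | a * a = 1 ∧ a * X * a = X⁻¹}
  have hs : s = (fun y => g * y) '' (Subgroup.zpowers X : Set G) := by
    ext a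
    constructor
    · rintro ⟨ha2, haX⟩
      refine ⟨g * a, ?_, by show g * (g * a) = a; rw [← mul_assoc, hg2, one_mul]⟩
      show g * a ∈ Subgroup.zpowers X
      rw [← hC, Subgroup.mem_centralizer_singleton_iff]
      calc g * a * X = g * (a * X * a) * a := by
            rw [show g * (a * X * a) * a = g * a * X * (a * a) by group, ha2, mul_one]
        _ = (g * X * g)⁻¹ * g * a := by rw [haX, mul_inv_rev, mul_inv_rev, hgi,
              show g * (X⁻¹ * g) * g = g * X⁻¹ * (g * g) by group, hg2, mul_one]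
        _ = X * (g * a) := by rw [hgX, inv_inv, mul_assoc]
    · rintro ⟨y, hy, rfl⟩
      obtain ⟨i, rfl⟩ := Subgroup.mem_zpowers_iff.1 hy
      have e : g * X ^ i * g = (X ^ i)⁻¹ := by
        have := conj_zpow (a := g) (b := X) (i := i)
        rw [hgi, hgX, inv_zpow] at this
        exact this.symm
      constructor
      · show g * X ^ i * (g * X ^ i) = 1
        rw [← mul_assoc, e, inv_mul_cancel]
      · show g * X ^ i * X * (g * X ^ i) = X⁻¹
        rw [show g * X ^ i * X * (g * X ^ i) = g * (X ^ i * X) * g * X ^ i by group,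
          show X ^ i * X = X ^ (i + 1) by rw [zpow_add, zpow_one]]
        have e' : g * X ^ (i + 1) * g = (X ^ (i + 1))⁻¹ := by
          have := conj_zpow (a := g) (b := X) (i := i + 1)
          rw [hgi, hgX, inv_zpow] at this
          exact this.symm
        rw [e']
        group
  have hns : ¬ 11 ∣ s.ncard := by
    rw [hs, Set.ncard_image_of_injective _ (mul_right_injective g), ← Nat.card_coe_set_eq,
      show Nat.card ↑(Subgroup.zpowers X : Set G) = Nat.card ↥(Subgroup.zpowers X) from rfl, hcard]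
    norm_num
  have hX12 : N * X ^ (12 : ℕ) * N⁻¹ = X := by
    rw [← conj_pow, hNX, ← pow_mul, show 2 * 12 = 23 + 1 from rfl, pow_succ, ← hX, pow_orderOf_eq_one, one_mul]
  have hinv : ∀ a ∈ s, N * a * N⁻¹ ∈ s := by
    rintro a ⟨ha2, haX⟩
    refine ⟨?_, ?_⟩
    · rw [show N * a * N⁻¹ * (N * a * N⁻¹) = N * (a * a) * N⁻¹ by group, ha2]; group
    · have hai : a⁻¹ = a := inv_eq_of_mul_eq_one_right ha2
      calc N * a * N⁻¹ * X * (N * a * N⁻¹)
          = N * a * (N⁻¹ * X * N) * a⁻¹ * N⁻¹ := by rw [hai]; group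
        _ = N * a * X ^ 12 * a⁻¹ * N⁻¹ := by
            rw [show N⁻¹ * X * N = X ^ 12 by
              nth_rewrite 1 [← hX12]
              group]
        _ = N * (a * X * a⁻¹) ^ 12 * N⁻¹ := by rw [conj_pow]; group
        _ = X⁻¹ := by
            rw [hai, haX, inv_pow]
            calc N * (X ^ 12)⁻¹ * N⁻¹ = (N * X ^ 12 * N⁻¹)⁻¹ := by group
              _ = X⁻¹ := by rw [hX12]
  obtain ⟨d, ⟨hd2, hdX⟩, hdN⟩ :=
    CfsgLib.JankoFour.Eleven.exists_fixed (x := N) (by rw [← hN, pow_orderOf_eq_one]) hinv hns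
  refine ⟨d, hd2, ?_, hdX, hdN⟩
  rintro rfl
  rw [one_mul, mul_one] at hdX
  have : X ^ 2 = 1 := by rw [pow_two]; exact eq_inv_iff_mul_eq_one.1 hdX
  have := orderOf_dvd_of_pow_eq_one this
  rw [hX] at this
  norm_num at this

/-- In a centraliser of order 242 an involution inverts at most one subgroup of order eleven. -/
theorem inverted_unique {N t d W : G} (hN : orderOf N = 11)
    (h242 : Nat.card ↥(Subgroup.centralizer ({N} : Set G)) = 242)
    (htN : Commute t N) (ht2 : t * t = 1) (ht1 : t ≠ 1) (hdN : Commute d N) (hd2 : d * d = 1) (hd1 : d ≠ 1)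
    (hdt : d ≠ t) (hW2 : W * W = 1) (hWN : W * N * W⁻¹ = N⁻¹) (hWt : Commute W t) :
    W * (d * t) * W⁻¹ = d * t ∨ W * (d * t) * W⁻¹ = (d * t)⁻¹ := by
  classical
  haveI : Fact (Nat.Prime 11) := ⟨by norm_num⟩
  set C := Subgroup.centralizer ({N} : Set G) with hCdef
  have hmemC : ∀ {a : G}, a ∈ C ↔ a * N = N * a := Subgroup.mem_centralizer_singleton_iff
  obtain ⟨P⟩ : Nonempty (Sylow 11 ↥C) := inferInstance
  have hP : Nat.card ↥(P : Subgroup ↥C) = 121 := by
    rw [P.card_eq_multiplicity, h242]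
    have : (242 : ℕ).factorization 11 = 2 := by
      rw [show (242 : ℕ) = 2 * 11 ^ 2 from rfl, Nat.factorization_mul (by norm_num) (by norm_num),
        Nat.Prime.factorization_pow (by norm_num), Nat.Prime.factorization (by norm_num : Nat.Prime 2)]
      simp
    rw [this]
    norm_num
  have hidx : (P : Subgroup ↥C).index = 2 := by
    have := (P : Subgroup ↥C).card_mul_index
    rw [hP, h242] at this
    omega
  set A := (P : Subgroup ↥C).map C.subtype with hAdef
  have hAcard : Nat.card ↥A = 121 := by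
    rw [hAdef, ← Nat.card_congr ((P : Subgroup ↥C).equivMapOfInjective _ C.subtype_injective).toEquiv, hP]
  have hAC : A ≤ C := Subgroup.map_subtype_le _
  have h121 : ∀ a ∈ A, a ^ 121 = 1 := fun a ha => by
    have := orderOf_dvd_natCard (⟨a, ha⟩ : ↥A)
    rw [hAcard, Subgroup.orderOf_mk] at this
    exact orderOf_dvd_iff_pow_eq_one.1 this
  have memA : ∀ {a : G}, a ∈ C → (a ∈ A ↔ a ^ 121 = 1) := by
    intro a ha
    refine ⟨h121 a, fun h => ?_⟩
    have h2 : (⟨a, ha⟩ : ↥C) ^ 2 ∈ (P : Subgroup ↥C) := Subgroup.sq_mem_of_index_two hidx _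
    have h3 : (⟨a, ha⟩ : ↥C) ^ 121 = 1 := Subtype.ext (by simpa using h)
    refine ⟨⟨a, ha⟩, ?_, rfl⟩
    have h4 : (⟨a, ha⟩ : ↥C) = ((⟨a, ha⟩ : ↥C) ^ 2) ^ 61 := by
      rw [← pow_mul, show 2 * 61 = 121 + 1 from rfl, pow_succ, h3, one_mul]
    rw [SetLike.mem_coe, h4]
    exact pow_mem h2 _
  have hcomm : ∀ a ∈ A, ∀ b ∈ A, a * b = b * a := fun a ha b hb =>
    congrArg Subtype.val (IsPGroup.commutative_of_card_eq_prime_sq (p := 11) (G := ↥A) (by rw [hAcard]; norm_num)
      ⟨a, ha⟩ ⟨b, hb⟩)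
  have htC : t ∈ C := hmemC.2 htN.eq
  have hdC : d ∈ C := hmemC.2 hdN.eq
  have nA : ∀ {a : G}, a * a = 1 → a ≠ 1 → a ∉ A := fun {a} h2 h1 ha => h1 (by
    have := h121 a ha
    rwa [show 121 = 2 * 60 + 1 from rfl, pow_succ, pow_mul, pow_two, h2, one_pow, one_mul] at this)
  have hy : d * t ∈ A := by
    have h := (Subgroup.mul_mem_iff_of_index_two hidx (a := (⟨d, hdC⟩ : ↥C)) (b := ⟨t, htC⟩)).2
    refine ⟨⟨d, hdC⟩ * ⟨t, htC⟩, h ?_, rfl⟩
    exact iff_of_false (fun e => nA hd2 hd1 ⟨_, e, rfl⟩) (fun e => nA ht2 ht1 ⟨_, e, rfl⟩)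
  have hti : t⁻¹ = t := inv_eq_of_mul_eq_one_right ht2
  have hdi : d⁻¹ = d := inv_eq_of_mul_eq_one_right hd2
  let I : Subgroup G :=
    { carrier := {a | a ∈ A ∧ t * a * t = a⁻¹}
      one_mem' := ⟨one_mem A, by rw [mul_one, ht2, inv_one]⟩
      mul_mem' := by
        rintro a b ⟨ha, ea⟩ ⟨hb, eb⟩
        refine ⟨mul_mem ha hb, ?_⟩
        calc t * (a * b) * t = t * a * t * (t * b * t) := by
              rw [show t * a * t * (t * b * t) = t * a * (t * t) * b * t by group, ht2]; group
          _ = (b * a)⁻¹ := by rw [ea, eb, mul_inv_rev]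
          _ = (a * b)⁻¹ := by rw [hcomm a ha b hb]
      inv_mem' := by
        rintro a ⟨ha, ea⟩
        refine ⟨inv_mem ha, ?_⟩
        rw [inv_inv]
        calc t * a⁻¹ * t = (t⁻¹ * a * t⁻¹)⁻¹ := by group
          _ = a := by rw [hti, ea, inv_inv] }
  have hyI : d * t ∈ I := ⟨hy, by rw [mul_inv_rev, hti, hdi, show t * (d * t) * t = t * d * (t * t) by group,
    ht2, mul_one]⟩
  have hy1 : d * t ≠ 1 := fun e => hdt (by rw [eq_inv_of_mul_eq_one_left e, hti])
  have hNI : N ∉ I := fun ⟨_, e⟩ => by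
    rw [htN.eq, mul_assoc, ht2, mul_one] at e
    have h2 : N ^ 2 = 1 := by rw [pow_two]; exact eq_inv_iff_mul_eq_one.1 e
    have := orderOf_dvd_of_pow_eq_one h2
    rw [hN] at this
    norm_num at this
  have hNA : N ∈ A := (memA (hmemC.2 rfl)).2 (orderOf_dvd_iff_pow_eq_one.1 (by rw [hN]; norm_num))
  have hIA : I ≤ A := fun a ha => ha.1
  have hI : Nat.card ↥I = 11 := by
    have hd : Nat.card ↥I ∣ 11 ^ 2 := (show (121 : ℕ) = 11 ^ 2 from rfl) ▸ hAcard ▸ Subgroup.card_dvd_of_le hIA
    obtain ⟨i, hi, e⟩ := (Nat.dvd_prime_pow (by norm_num : Nat.Prime 11)).1 hd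
    interval_cases i
    · exfalso
      rw [pow_zero, Subgroup.card_eq_one] at e
      rw [e, Subgroup.mem_bot] at hyI
      exact hy1 hyI
    · rw [e, pow_one]
    · exact absurd (Subgroup.eq_of_le_of_card_ge hIA (by rw [e, hAcard]; norm_num) ▸ hNA) hNI
  have hWyI : W * (d * t) * W⁻¹ ∈ I := by
    have hWi : W⁻¹ = W := inv_eq_of_mul_eq_one_right hW2
    have hc : W * (d * t) * W⁻¹ ∈ C := by
      have e2 : Commute (d * t) N := hdN.mul_left htN
      have e3 : Commute (d * t) (W⁻¹ * N * W) := by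
        rw [show W⁻¹ * N * W = N⁻¹ by rw [hWi]; rw [hWi] at hWN; exact hWN]
        exact e2.inv_right
      refine hmemC.2 ?_
      calc W * (d * t) * W⁻¹ * N = W * (d * t * (W⁻¹ * N * W)) * W⁻¹ := by group
        _ = W * (W⁻¹ * N * W * (d * t)) * W⁻¹ := by rw [e3.eq]
        _ = N * (W * (d * t) * W⁻¹) := by group
    refine ⟨(memA hc).2 (by rw [conj_pow, h121 _ hy]; group), ?_⟩
    calc t * (W * (d * t) * W⁻¹) * t = W * (t * (d * t) * t) * W⁻¹ := by
          rw [show t * (W * (d * t) * W⁻¹) * t = t * W * (d * t) * (W⁻¹ * t) by group, ← hWt.eq,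
            hWt.inv_left.eq]
          group
      _ = W * (d * t)⁻¹ * W⁻¹ := by rw [hyI.2]
      _ = (W * (d * t) * W⁻¹)⁻¹ := by group
  have hyo : orderOf (d * t) = 11 := by
    refine orderOf_eq_prime ?_ hy1
    have := orderOf_dvd_natCard (⟨d * t, hyI⟩ : ↥I)
    rw [hI, Subgroup.orderOf_mk] at this
    exact orderOf_dvd_iff_pow_eq_one.1 this
  have hIz : Subgroup.zpowers (d * t) = I :=
    Subgroup.eq_of_le_of_card_ge (Subgroup.zpowers_le.2 hyI) (by rw [hI, Nat.card_zpowers, hyo])
  obtain ⟨k, hk⟩ := Subgroup.mem_zpowers_iff.1 (hIz.symm ▸ hWyI)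
  have hkk : (d * t) ^ (k * k) = d * t := by
    rw [zpow_mul]
    nth_rewrite 1 [hk]
    rw [conj_zpow, hk, inv_eq_of_mul_eq_one_right hW2]
    calc W * (W * (d * t) * W) * W = W * W * (d * t) * (W * W) := by group
      _ = d * t := by rw [hW2]; group
  have hdiv : (11 : ℤ) ∣ k * k - 1 := by
    have : (d * t) ^ (k * k - 1) = 1 := by rw [zpow_sub, hkk, zpow_one, mul_inv_cancel]
    have := orderOf_dvd_iff_zpow_eq_one.2 this
    rwa [hyo] at this
  rw [show k * k - 1 = (k - 1) * (k + 1) by ring] at hdiv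
  rcases (Int.prime_iff_natAbs_prime.2 (by norm_num) : Prime (11 : ℤ)).dvd_mul.1 hdiv with h | h
  · left
    rw [← hk]
    have h1 : (d * t) ^ (k - 1) = 1 := orderOf_dvd_iff_zpow_eq_one.1 (by rw [hyo]; exact h)
    rw [zpow_sub, zpow_one, mul_inv_eq_one] at h1
    exact h1
  · right
    rw [← hk]
    have h1 : (d * t) ^ (k + 1) = 1 := orderOf_dvd_iff_zpow_eq_one.1 (by rw [hyo]; exact h)
    rw [zpow_add, zpow_one] at h1
    exact eq_inv_of_mul_eq_one_left h1

section complements

variable {S : Setting G} {B : HexBase S} (T : B.TenBase)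

/-- The complement twisted by the point at infinity. -/
noncomputable def twist : ↥M24 →* G :=
  MonoidHom.mk' (fun σ => B.vel (pairCode none (σ.1 none)) * T.lift σ) fun σ τ => by
    show B.vel (pairCode none (σ.1 (τ.1 none))) * T.lift (σ * τ) = _
    rw [map_mul, show B.vel (pairCode none (σ.1 (τ.1 none))) = B.vel (pairCode none (σ.1 none)) *
        (T.lift σ * B.vel (pairCode none (τ.1 none)) * (T.lift σ)⁻¹) by
      rw [B.conj_pair (T.lift_mem _) (T.moves_lift _), B.vel_xor]
      congr 1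
      show _ = pairCode none (σ.1 none) ^^^ _
      rw [pairCode_comm none (σ.1 none), pairCode_xor]]
    group

theorem twist_apply (σ : ↥M24) : twist T σ = B.vel (pairCode none (σ.1 none)) * T.lift σ := rfl

theorem lift_injective : Function.Injective T.lift := fun σ τ h => by
  rw [← T.phi_lift σ, ← T.phi_lift τ]
  exact congrArg _ (Subtype.ext h)

theorem twist_injective : Function.Injective (twist T) := fun σ τ h => by
  have phi : ∀ ρ : ↥M24, T.Φ ⟨twist T ρ,
      mul_mem (Subgroup.le_normalizer (B.vel_mem (pairCode_lt _ _))) (T.lift_mem _)⟩ = ρ := fun ρ => by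
    show T.Φ (⟨_, Subgroup.le_normalizer (B.vel_mem (pairCode_lt none (ρ.1 none)))⟩ * ⟨_, T.lift_mem ρ⟩) = ρ
    rw [map_mul, (T.hker ⟨_, Subgroup.le_normalizer (B.vel_mem (pairCode_lt none (ρ.1 none)))⟩).2
      (B.vel_mem (pairCode_lt _ _)), one_mul, T.phi_lift]
  rw [← phi σ, ← phi τ]
  exact congrArg _ (Subtype.ext h)

theorem twist_fix {σ : ↥M24} (h : σ.1 none = none) : twist T σ = T.lift σ := by
  rw [twist_apply, h, pairCode_self, B.vel_zero, one_mul]

end complements

/-- The projective general linear group over the field of 23 elements, from the order of the group and the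
centralisers of order 242 of elements of order eleven. -/
theorem pgl_twentythree [IsSimpleGroup G] (hG : ¬ IsMulCommutative G) (hJ : IsOfJankoFourType G)
    (hord : Nat.card G = ord4)
    (h242 : ∀ z : G, IsOfJankoFourTypeAt z → ∀ x t : G, orderOf x = 11 → orderOf t = 2 → ¬ IsConj z t →
      Commute x t → Nat.card ↥(Subgroup.centralizer ({x} : Set G)) = 242) :
    ∃ K : Subgroup G, Nonempty (↥K ≃* GL (Fin 2) (ZMod 23) ⧸ Subgroup.center (GL (Fin 2) (ZMod 23))) := by
  classical
  have F := facts hG hJ hord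
  obtain ⟨z, P, hP⟩ := id hJ
  have hz : IsOfJankoFourTypeAt z := ⟨P, hP⟩
  obtain ⟨S, rfl, rfl⟩ := exists_setting hP
  obtain ⟨B⟩ := S.exists_hexBase
  obtain ⟨T⟩ := B.exists_tenBase hG hJ
  obtain ⟨hx23, hx1, hn11, hn1, hnx, hw2, hwn, -, -, -, -, -, hxi, hni, hn0, hwi, hw0⟩ := gen_facts
  haveI : Fact (Nat.Prime 11) := ⟨by norm_num⟩
  set xg : ↥M24 := ⟨xP, xP_mem⟩
  set ng : ↥M24 := ⟨nP, nP_mem⟩
  set wg : ↥M24 := ⟨projInv, projInv_mem⟩
  have hxg : orderOf xg = 23 := orderOf_eq_prime (Subtype.ext hx23) fun e => hx1 (congrArg Subtype.val e)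
  have hng : orderOf ng = 11 := orderOf_eq_prime (Subtype.ext hn11) fun e => hn1 (congrArg Subtype.val e)
  set X := T.lift xg with hXdef
  set N := T.lift ng with hNdef
  set W := T.lift wg with hWdef
  have hX : orderOf X = 23 := by rw [orderOf_injective _ (lift_injective T), hxg]
  have hN : orderOf N = 11 := by rw [orderOf_injective _ (lift_injective T), hng]
  have hNX : N * X * N⁻¹ = X ^ 2 := by
    refine mul_inv_eq_of_eq_mul ?_
    rw [hNdef, hXdef, ← map_mul, ← map_pow, ← map_mul]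
    exact congrArg _ (Subtype.ext hnx)
  have hW2 : W * W = 1 := by
    rw [hWdef, ← map_mul, ← map_one T.lift]
    exact congrArg _ (Subtype.ext hw2)
  have hWN : W * N * W⁻¹ = N⁻¹ := by
    rw [inv_eq_of_mul_eq_one_right hW2]
    refine eq_inv_of_mul_eq_one_left ?_
    rw [hNdef, hWdef, ← map_mul, ← map_mul, ← map_mul, ← map_one T.lift]
    exact congrArg _ (Subtype.ext hwn)
  set t := B.vel (pairCode none (some 0)) with htdef
  obtain ⟨ht1, htz⟩ := B.duad_not_conj hG hJ (a := none) (b := some 0) (by simp)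
  rw [← htdef] at ht1 htz
  have ht2 : t * t = 1 := B.vel_sq _
  have htN : Commute t N := by
    have h := B.conj_pair (T.lift_mem ng) (T.moves_lift ng) none (some 0)
    rw [show (ng : Equiv.Perm GolayPt) none = none from hni,
      show (ng : Equiv.Perm GolayPt) (some 0) = some 0 from hn0, ← htdef, ← hNdef] at h
    exact (mul_inv_eq_iff_eq_mul.1 h).symm
  have hWt : Commute W t := by
    have h := B.conj_pair (T.lift_mem wg) (T.moves_lift wg) none (some 0)
    rw [show (wg : Equiv.Perm GolayPt) none = some 0 from hwi,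
      show (wg : Equiv.Perm GolayPt) (some 0) = none from hw0, pairCode_comm (some 0) none, ← htdef,
      ← hWdef] at h
    exact mul_inv_eq_iff_eq_mul.1 h
  have hC := self_centralising hG hJ hord (p := 23) (by decide) (y := X) hX
  have hA : autCard (Subgroup.zpowers X) = 22 := (F.twentythree' (by rw [Nat.card_zpowers, hX])).2
  obtain ⟨d, hd2, hd1, hdX, hdN⟩ := exists_ext_inv hX hC hN hNX hA
  have hdt : d ≠ t := by
    intro e
    subst e
    have hXN : X⁻¹ ∈ B.NV := inv_mem (T.lift_mem _)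
    have hVt : t ∈ B.V := B.vel_mem (pairCode_lt _ _)
    have htn : t ∈ B.NV := Subgroup.le_normalizer hVt
    have e1 : T.Φ (⟨t, htn⟩ * ⟨X, T.lift_mem _⟩ * ⟨t, htn⟩) = T.Φ ⟨X, T.lift_mem _⟩⁻¹ :=
      congrArg _ (Subtype.ext hdX)
    rw [map_mul, map_mul, map_inv, (T.hker ⟨t, htn⟩).2 hVt, one_mul, mul_one,
      show T.Φ ⟨X, T.lift_mem _⟩ = xg from T.phi_lift xg] at e1
    have h2 : xg ^ 2 = 1 := by rw [pow_two]; exact eq_inv_iff_mul_eq_one.1 e1
    have := orderOf_dvd_of_pow_eq_one h2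
    rw [hxg] at this
    norm_num at this
  have hC242 := h242 _ hz N t hN (orderOf_eq_prime (by rw [pow_two, ht2]) ht1) htz htN.symm
  have hti : t⁻¹ = t := inv_eq_of_mul_eq_one_right ht2
  have hWi : W⁻¹ = W := inv_eq_of_mul_eq_one_right hW2
  have hdy : d = d * t * t := by rw [mul_assoc, ht2, mul_one]
  have hdN' : d * N * d = N := by rw [hdN.eq, mul_assoc, hd2, mul_one]
  have hdWc : ∀ V : G, Commute V (d * t) → Commute V t → d * V * d = V := fun V h1 h2 => by
    have h3 : Commute V d := hdy ▸ h1.mul_right h2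
    rw [← h3.eq, mul_assoc, hd2, mul_one]
  rcases inverted_unique hN hC242 htN ht2 ht1 hdN hd2 hd1 hdt hW2 hWN hWt with h | h
  · exact exists_pgl T.lift (lift_injective T) hd2 hdX hdN'
      (hdWc W (mul_inv_eq_iff_eq_mul.1 h) hWt) hd1
  · have hw : twist T wg = t * W := by
      rw [twist_apply, show (wg : Equiv.Perm GolayPt) none = some 0 from hwi]
    refine exists_pgl (twist T) (twist_injective T) hd2 ?_ ?_ ?_ hd1
    · rw [twist_fix T (σ := xg) hxi]; exact hdX
    · rw [twist_fix T (σ := ng) hni]; exact hdN'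
    · show d * twist T wg * d = twist T wg
      rw [hw]
      refine hdWc _ (mul_inv_eq_iff_eq_mul.1 ?_) ((Commute.refl t).mul_left hWt)
      calc t * W * (d * t) * (t * W)⁻¹ = t * (W * (d * t) * W⁻¹) * t⁻¹ := by group
        _ = t * (d * t)⁻¹ * t := by rw [h, hti]
        _ = d * t := by
          rw [mul_inv_rev, hti, inv_eq_of_mul_eq_one_right hd2,
            show t * (t * d) * t = t * t * d * t by group, ht2, one_mul]

end CfsgLib.JankoFourPGL
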