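import Cfsg.Agent.Lib.Sporadic.M24Gen
import Cfsg.Agent.Lib.JankoFourEleven.Mathieu
import Mathlib.Topology.Compactification.OnePoint.ProjectiveLine
import Mathlib.LinearAlgebra.Matrix.GeneralLinearGroup.Projective

/-!
The projective line over the field of 23 elements: the projective general linear group as a group of
permutations, and the extension of a map on its half inside M24 (owner: helper8).
-/

set_option autoImplicit false
set_option maxRecDepth 100000
set_option maxHeartbeats 800000

namespace CfsgLib.JankoFourPGL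

open Cfsg CfsgLib.Sporadic

instance : Fact (Nat.Prime 23) := ⟨by norm_num⟩

/-- Translations. -/
def trP (a : ZMod 23) : Equiv.Perm GolayPt := Equiv.optionCongr (Equiv.addRight a)

/-- Multiplications. -/
def mlP (u : (ZMod 23)ˣ) : Equiv.Perm GolayPt := Equiv.optionCongr (Units.mulLeft u)

/-- Two as a unit. -/
def twoU : (ZMod 23)ˣ := ⟨2, 12, by decide +kernel, by decide +kernel⟩

/-- Five as a unit. -/
def fiveU : (ZMod 23)ˣ := ⟨5, 14, by decide +kernel, by decide +kernel⟩

/-- The translation by one. -/
def xP : Equiv.Perm GolayPt := trP 1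

/-- The multiplication by two. -/
def nP : Equiv.Perm GolayPt := mlP twoU

/-- The multiplication by minus one. -/
def dP : Equiv.Perm GolayPt := mlP (-1)

theorem xP_mem : xP ∈ M24 := shift_mem

theorem nP_mem : nP ∈ M24 := mulSquare_mem twoU ⟨fiveU, by decide +kernel⟩

theorem gen_facts :
    xP ^ 23 = 1 ∧ xP ≠ 1 ∧ nP ^ 11 = 1 ∧ nP ≠ 1 ∧ nP * xP = xP ^ 2 * nP ∧ projInv * projInv = 1 ∧
    projInv * nP * projInv * nP = 1 ∧ dP * dP = 1 ∧ dP ≠ 1 ∧ dP * xP * dP = xP⁻¹ ∧ dP * nP * dP = nP ∧
    dP * projInv * dP = projInv ∧ xP none = none ∧ nP none = none ∧ nP (some 0) = some 0 ∧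
    projInv none = some 0 ∧ projInv (some 0) = none := by
  decide +kernel

theorem trP_pow : ∀ a : ZMod 23, trP a = xP ^ a.val := by decide +kernel

theorem mlP_pow : ∀ u : (ZMod 23)ˣ, ∃ i < 11, ∃ e < 2, mlP u = nP ^ i * dP ^ e := by decide +kernel

theorem trP_apply (a x : ZMod 23) : trP a (some x) = some (x + a) := rfl

theorem trP_none (a : ZMod 23) : trP a none = none := rfl

theorem mlP_apply (u : (ZMod 23)ˣ) (x : ZMod 23) : mlP u (some x) = some ((u : ZMod 23) * x) := rfl

theorem mlP_none (u : (ZMod 23)ˣ) : mlP u none = none := rfl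

theorem projInv_some : ∀ x : ZMod 23, projInv (some x) = if x = 0 then none else some (-(x⁻¹)) := by
  decide +kernel

theorem projInv_none : projInv none = some 0 := rfl

/-- The action on the projective line. -/
noncomputable def rho : GL (Fin 2) (ZMod 23) →* Equiv.Perm GolayPt :=
  MulAction.toPermHom (GL (Fin 2) (ZMod 23)) (OnePoint (ZMod 23))

theorem rho_none (g : GL (Fin 2) (ZMod 23)) :
    rho g none = if g 1 0 = 0 then none else some (g 0 0 / g 1 0) :=
  OnePoint.smul_infty_eq_ite g

theorem rho_some (g : GL (Fin 2) (ZMod 23)) (k : ZMod 23) :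
    rho g (some k) = if g 1 0 * k + g 1 1 = 0 then none else some ((g 0 0 * k + g 0 1) / (g 1 0 * k + g 1 1)) :=
  OnePoint.smul_some_eq_ite (g := g) (k := k)

/-- The group generated by the generators. -/
def genGrp : Subgroup (Equiv.Perm GolayPt) := Subgroup.closure {xP, nP, projInv, dP}

theorem trP_mem (a : ZMod 23) : trP a ∈ genGrp := by
  rw [trP_pow]; exact pow_mem (Subgroup.subset_closure (by simp)) _

theorem mlP_mem (u : (ZMod 23)ˣ) : mlP u ∈ genGrp := by
  obtain ⟨i, -, e, -, h⟩ := mlP_pow u
  rw [h]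
  exact mul_mem (pow_mem (Subgroup.subset_closure (by simp)) _) (pow_mem (Subgroup.subset_closure (by simp)) _)

theorem rho_range : rho.range = genGrp := by
  refine le_antisymm ?_ ((Subgroup.closure_le _).2 ?_)
  · rintro _ ⟨g, rfl⟩
    have hdet : g 0 0 * g 1 1 - g 0 1 * g 1 0 ≠ 0 := by
      have h := g.det_ne_zero
      rwa [Matrix.det_fin_two] at h
    by_cases hc : g 1 0 = 0
    · rw [hc, mul_zero, sub_zero] at hdet
      have ha : g 0 0 ≠ 0 := left_ne_zero_of_mul hdet
      have hd : g 1 1 ≠ 0 := right_ne_zero_of_mul hdet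
      have e : rho g = trP (g 0 1 / g 1 1) * mlP (Units.mk0 (g 0 0 / g 1 1) (div_ne_zero ha hd)) := by
        refine Equiv.ext fun p => ?_
        rcases p with _ | k
        · rw [rho_none, if_pos hc, Equiv.Perm.mul_apply, mlP_none, trP_none]
        · rw [rho_some, Equiv.Perm.mul_apply, mlP_apply, trP_apply, hc, zero_mul, zero_add, if_neg hd, Units.val_mk0]
          congr 1
          field_simp
      rw [e]
      exact mul_mem (trP_mem _) (mlP_mem _)
    · have hne : (g 0 0 * g 1 1 - g 0 1 * g 1 0) / (g 1 0 * g 1 0) ≠ 0 := div_ne_zero hdet (mul_ne_zero hc hc)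
      have e : rho g = trP (g 0 0 / g 1 0) *
          (mlP (Units.mk0 _ hne) * (projInv * trP (g 1 1 / g 1 0))) := by
        refine Equiv.ext fun p => ?_
        rcases p with _ | k
        · rw [rho_none, if_neg hc, Equiv.Perm.mul_apply, Equiv.Perm.mul_apply, Equiv.Perm.mul_apply, trP_none,
            projInv_none, mlP_apply, mul_zero, trP_apply, zero_add]
        · rw [rho_some, Equiv.Perm.mul_apply, Equiv.Perm.mul_apply, Equiv.Perm.mul_apply, trP_apply, projInv_some]
          by_cases h0 : g 1 0 * k + g 1 1 = 0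
          · have h1 : k + g 1 1 / g 1 0 = 0 := by
              field_simp
              linear_combination h0
            rw [if_pos h0, if_pos h1, mlP_none, trP_none]
          · have h1 : k + g 1 1 / g 1 0 ≠ 0 := fun e => h0 (by
              field_simp at e
              linear_combination e)
            rw [if_neg h0, if_neg h1, mlP_apply, trP_apply, Units.val_mk0]
            congr 1
            have h2 : k * g 1 0 + g 1 1 ≠ 0 := fun e => h0 (by linear_combination e)
            field_simp
            ring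
      rw [e]
      exact mul_mem (trP_mem _) (mul_mem (mlP_mem _) (mul_mem (Subgroup.subset_closure (by simp)) (trP_mem _)))
  · have key : ∀ (M : Matrix (Fin 2) (Fin 2) (ZMod 23)) (hM : M.det ≠ 0) (σ : Equiv.Perm GolayPt),
        ((if M 1 0 = 0 then none else some (M 0 0 / M 1 0)) = σ none) →
        (∀ k : ZMod 23, (if M 1 0 * k + M 1 1 = 0 then none
          else some ((M 0 0 * k + M 0 1) / (M 1 0 * k + M 1 1))) = σ (some k)) → σ ∈ rho.range := by
      intro M hM σ h0 h1
      refine ⟨Matrix.GeneralLinearGroup.mkOfDetNeZero M hM, Equiv.ext fun p => ?_⟩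
      rcases p with _ | k
      · rw [rho_none]; exact h0
      · rw [rho_some]; exact h1 k
    intro σ hσ
    simp only [Set.mem_insert_iff, Set.mem_singleton_iff] at hσ
    rcases hσ with rfl | rfl | rfl | rfl
    · exact key !![1, 1; 0, 1] (by decide +kernel) _ (by decide +kernel) (by decide +kernel)
    · exact key !![2, 0; 0, 1] (by decide +kernel) _ (by decide +kernel) (by decide +kernel)
    · exact key !![0, -1; 1, 0] (by decide +kernel) _ (by decide +kernel) (by decide +kernel)
    · exact key !![-1, 0; 0, 1] (by decide +kernel) _ (by decide +kernel) (by decide +kernel)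

theorem rho_ker : rho.ker = Subgroup.center (GL (Fin 2) (ZMod 23)) := by
  ext g
  rw [MonoidHom.mem_ker, Matrix.GeneralLinearGroup.mem_center_iff_val_eq_scalar]
  constructor
  · intro h
    have h1 : rho g none = none := by rw [h]; rfl
    have h2 : rho g (some 0) = some 0 := by rw [h]; rfl
    have h3 : rho g (some 1) = some 1 := by rw [h]; rfl
    rw [rho_none] at h1
    rw [rho_some] at h2 h3
    have hc : g 1 0 = 0 := by
      by_contra hc
      rw [if_neg hc] at h1
      exact Option.some_ne_none _ h1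
    simp only [hc, zero_mul, zero_add, mul_zero, mul_one] at h2 h3
    have hd : g 1 1 ≠ 0 := by
      intro hd
      rw [if_pos hd] at h2
      exact Option.some_ne_none _ h2.symm
    rw [if_neg hd] at h2 h3
    have hb : g 0 1 = 0 := by
      have := Option.some.inj h2
      field_simp at this
      simpa using this
    have hab : g 0 0 = g 1 1 := by
      have := Option.some.inj h3
      rw [hb, add_zero] at this
      field_simp at this
      exact this
    refine ⟨g 0 0, Matrix.ext fun i j => ?_⟩
    fin_cases i <;> fin_cases j <;> simp [hc, hb, hab]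
  · rintro ⟨r, hr⟩
    have hij : ∀ i j, g i j = Matrix.scalar (Fin 2) r i j := fun i j => (congrFun (congrFun hr i) j).symm
    have h00 : g 0 0 = r := by rw [hij]; simp
    have h11 : g 1 1 = r := by rw [hij]; simp
    have h01 : g 0 1 = 0 := by rw [hij]; simp
    have h10 : g 1 0 = 0 := by rw [hij]; simp
    have hr0 : r ≠ 0 := by
      intro e
      apply g.det_ne_zero
      rw [Matrix.det_fin_two, h00, h10, e]
      simp
    refine Equiv.ext fun p => ?_
    rcases p with _ | k
    · rw [rho_none, if_pos h10]; rfl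
    · rw [rho_some, h00, h01, h10, h11, zero_mul, zero_add, if_neg hr0, add_zero, mul_div_cancel_left₀ _ hr0]
      rfl

/-- The projective general linear group as permutations. -/
theorem pgl_iso : Nonempty (↥genGrp ≃* GL (Fin 2) (ZMod 23) ⧸ Subgroup.center (GL (Fin 2) (ZMod 23))) :=
  ⟨((MulEquiv.subgroupCongr rho_range.symm).trans (QuotientGroup.quotientKerEquivRange rho).symm).trans
    (QuotientGroup.quotientMulEquivOfEq rho_ker)⟩

/-- The half inside M24. -/
def halfGrp : Subgroup ↥M24 := Subgroup.closure {⟨xP, xP_mem⟩, ⟨nP, nP_mem⟩, ⟨projInv, projInv_mem⟩}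

theorem half_conj {h : ↥M24} (hh : h ∈ halfGrp) :
    ∃ h' ∈ halfGrp, dP * (h : Equiv.Perm GolayPt) * dP = (h' : Equiv.Perm GolayPt) := by
  obtain ⟨-, -, -, -, -, -, -, hdd, -, hdx, hdn, hdw, -⟩ := gen_facts
  induction hh using Subgroup.closure_induction with
  | mem y hy =>
    simp only [Set.mem_insert_iff, Set.mem_singleton_iff] at hy
    rcases hy with rfl | rfl | rfl
    · exact ⟨⟨xP, xP_mem⟩⁻¹, inv_mem (Subgroup.subset_closure (by simp)), hdx⟩
    · exact ⟨⟨nP, nP_mem⟩, Subgroup.subset_closure (by simp), hdn⟩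
    · exact ⟨⟨projInv, projInv_mem⟩, Subgroup.subset_closure (by simp), hdw⟩
  | one => exact ⟨1, one_mem _, by simp [hdd]⟩
  | mul a b _ _ iha ihb =>
    obtain ⟨a', ha', ea⟩ := iha
    obtain ⟨b', hb', eb⟩ := ihb
    refine ⟨a' * b', mul_mem ha' hb', ?_⟩
    rw [Subgroup.coe_mul, Subgroup.coe_mul, ← ea, ← eb]
    simp only [← mul_assoc]
    rw [mul_assoc (dP * (a : Equiv.Perm GolayPt)) dP dP, hdd, mul_one]
  | inv a _ iha =>
    obtain ⟨a', ha', ea⟩ := iha
    refine ⟨a'⁻¹, inv_mem ha', ?_⟩
    rw [Subgroup.coe_inv, Subgroup.coe_inv, ← ea]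
    simp [mul_inv_rev, inv_eq_of_mul_eq_one_right hdd, mul_assoc]

variable {G : Type*} [Group G]

/-- A monomorphism of M24 and an involution with the same action on the half give a projective general linear
group. -/
theorem exists_pgl (f : ↥M24 →* G) (hf : Function.Injective f) {d : G} (hd2 : d * d = 1)
    (hdx : d * f ⟨xP, xP_mem⟩ * d = (f ⟨xP, xP_mem⟩)⁻¹) (hdn : d * f ⟨nP, nP_mem⟩ * d = f ⟨nP, nP_mem⟩)
    (hdw : d * f ⟨projInv, projInv_mem⟩ * d = f ⟨projInv, projInv_mem⟩) (hd1 : d ≠ 1) :
    ∃ K : Subgroup G, Nonempty (↥K ≃* GL (Fin 2) (ZMod 23) ⧸ Subgroup.center (GL (Fin 2) (ZMod 23))) := by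
  classical
  obtain ⟨hx23, hx1, hn11, hn1, -, -, -, hdd, hd1', hPx, hPn, hPw, -⟩ := gen_facts
  -- the two conjugations agree
  have agree : ∀ h ∈ halfGrp, ∀ h' : ↥M24, dP * (h : Equiv.Perm GolayPt) * dP = h' → d * f h * d = f h' := by
    have hinv : d⁻¹ = d := inv_eq_of_mul_eq_one_right hd2
    intro h hh
    induction hh using Subgroup.closure_induction with
    | mem y hy =>
      intro h' e
      simp only [Set.mem_insert_iff, Set.mem_singleton_iff] at hy
      rcases hy with rfl | rfl | rfl
      · obtain rfl : h' = ⟨xP, xP_mem⟩⁻¹ := Subtype.ext (e.symm.trans hPx)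
        rw [map_inv]; exact hdx
      · obtain rfl : h' = ⟨nP, nP_mem⟩ := Subtype.ext (e.symm.trans hPn)
        exact hdn
      · obtain rfl : h' = ⟨projInv, projInv_mem⟩ := Subtype.ext (e.symm.trans hPw)
        exact hdw
    | one =>
      intro h' e
      obtain rfl : h' = 1 := Subtype.ext (e.symm.trans (by simp [hdd]))
      simp [hd2]
    | mul a b ha hb iha ihb =>
      intro h' e
      obtain ⟨a', -, ea⟩ := half_conj ha
      obtain ⟨b', -, eb⟩ := half_conj hb
      obtain rfl : h' = a' * b' := Subtype.ext (by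
        rw [← e, Subgroup.coe_mul, Subgroup.coe_mul, ← ea, ← eb]
        simp only [← mul_assoc]
        rw [mul_assoc (dP * (a : Equiv.Perm GolayPt)) dP dP, hdd, mul_one])
      rw [map_mul, map_mul, ← iha a' ea, ← ihb b' eb,
        show d * f a * d * (d * f b * d) = d * f a * (d * d) * f b * d by group, hd2, mul_one]
      group
    | inv a ha iha =>
      intro h' e
      obtain ⟨a', -, ea⟩ := half_conj ha
      obtain rfl : h' = a'⁻¹ := Subtype.ext (by
        rw [← e, Subgroup.coe_inv, Subgroup.coe_inv, ← ea]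
        simp [mul_inv_rev, inv_eq_of_mul_eq_one_right hdd, mul_assoc])
      rw [map_inv, map_inv, ← iha a' ea, mul_inv_rev, mul_inv_rev, hinv, mul_assoc]
  -- no element of M24 acts as the outer involution
  have no_inner : ∀ h : ↥M24, h * h = 1 → h * ⟨nP, nP_mem⟩ = ⟨nP, nP_mem⟩ * h → h = 1 := by
    intro h h2 hc
    haveI : Fact (Nat.Prime 11) := ⟨by norm_num⟩
    have hn : orderOf (⟨nP, nP_mem⟩ : ↥M24) = 11 :=
      orderOf_eq_prime (Subtype.ext hn11) fun e => hn1 (congrArg Subtype.val e)
    have hmem := (CfsgLib.JankoFour.Eleven.m24_eleven hn).1 h hc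
    have h11 : h ^ 11 = 1 := by
      obtain ⟨j, rfl⟩ := Subgroup.mem_zpowers_iff.1 hmem
      rw [← zpow_natCast, ← zpow_mul, mul_comm, zpow_mul, zpow_natCast, ← hn, pow_orderOf_eq_one, one_zpow]
    calc h = (h ^ 2) ^ 5 * h := by rw [pow_two, h2, one_pow, one_mul]
      _ = 1 := by rw [← pow_mul, ← pow_succ]; exact h11
  -- pairs
  let pr : Bool → Equiv.Perm GolayPt × G := fun b => bif b then (dP, d) else 1
  let Γ : Subgroup (Equiv.Perm GolayPt × G) :=
    { carrier := {q | ∃ h ∈ halfGrp, ∃ b, q = ((h : Equiv.Perm GolayPt), f h) * pr b}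
      one_mem' := ⟨1, one_mem _, false, Prod.ext (by simp [pr]) (by simp [pr])⟩
      mul_mem' := by
        rintro q q' ⟨h, hh, b, rfl⟩ ⟨k, hk, c, rfl⟩
        cases b
        · refine ⟨h * k, mul_mem hh hk, c, ?_⟩
          cases c <;> exact Prod.ext (by simp [pr, mul_assoc]) (by simp [pr, mul_assoc])
        · obtain ⟨k', hk', ek⟩ := half_conj hk
          have e2 := agree k hk k' ek
          have hswap : pr true * ((k : Equiv.Perm GolayPt), f k) = ((k' : Equiv.Perm GolayPt), f k') * pr true := by
            refine Prod.ext ?_ ?_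
            · show dP * (k : Equiv.Perm GolayPt) = (k' : Equiv.Perm GolayPt) * dP
              rw [← ek, mul_assoc, mul_assoc, hdd, mul_one]
            · show d * f k = f k' * d
              rw [← e2, mul_assoc, mul_assoc, hd2, mul_one]
          refine ⟨h * k', mul_mem hh hk', !c, ?_⟩
          have hcc : pr true * pr c = pr (!c) := by cases c <;> simp [pr, hdd, hd2]
          calc ((h : Equiv.Perm GolayPt), f h) * pr true * (((k : Equiv.Perm GolayPt), f k) * pr c)
              = ((h : Equiv.Perm GolayPt), f h) * (pr true * ((k : Equiv.Perm GolayPt), f k)) * pr c := by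
                simp only [mul_assoc]
            _ = ((h : Equiv.Perm GolayPt), f h) * ((k' : Equiv.Perm GolayPt), f k') * (pr true * pr c) := by
                rw [hswap]; simp only [mul_assoc]
            _ = _ := by rw [hcc]; simp
      inv_mem' := by
        rintro q ⟨h, hh, b, rfl⟩
        cases b
        · exact ⟨h⁻¹, inv_mem hh, false, by simp [pr]⟩
        · obtain ⟨k', hk', ek⟩ := half_conj (inv_mem hh)
          have e2 := agree _ (inv_mem hh) k' ek
          refine ⟨k', hk', true, inv_eq_of_mul_eq_one_right (Prod.ext ?_ ?_)⟩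
          · show (h : Equiv.Perm GolayPt) * dP * ((k' : Equiv.Perm GolayPt) * dP) = 1
            rw [← ek, Subgroup.coe_inv]
            simp only [← mul_assoc]
            rw [mul_assoc (h : Equiv.Perm GolayPt) dP dP, hdd, mul_one, mul_inv_cancel, one_mul, hdd]
          · show f h * d * (f k' * d) = 1
            rw [← e2, map_inv]
            simp only [← mul_assoc]
            rw [mul_assoc (f h) d d, hd2, mul_one, mul_inv_cancel, one_mul, hd2] }
  let p1 : ↥Γ →* Equiv.Perm GolayPt := (MonoidHom.fst _ _).comp Γ.subtype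
  let p2 : ↥Γ →* G := (MonoidHom.snd _ _).comp Γ.subtype
  have inj1 : Function.Injective p1 := by
    rw [injective_iff_map_eq_one]
    rintro ⟨q, h, hh, b, rfl⟩ e
    cases b
    · have : h = 1 := Subtype.ext (by simpa [p1, pr] using e)
      exact Subtype.ext (by simp [pr, this])
    · exfalso
      have e1 : (h : Equiv.Perm GolayPt) * dP = 1 := e
      have e2 : (h : Equiv.Perm GolayPt) = dP := by rw [eq_inv_of_mul_eq_one_left e1, inv_eq_of_mul_eq_one_right hdd]
      have h2 : h * h = 1 := Subtype.ext (by rw [Subgroup.coe_mul, e2, hdd]; rfl)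
      have hc : h * ⟨nP, nP_mem⟩ = ⟨nP, nP_mem⟩ * h := Subtype.ext (by
        show (h : Equiv.Perm GolayPt) * nP = nP * h
        rw [e2]
        conv_rhs => rw [← hPn, mul_assoc, hdd, mul_one])
      exact hd1' (by rw [← e2, no_inner h h2 hc]; rfl)
  have inj2 : Function.Injective p2 := by
    rw [injective_iff_map_eq_one]
    rintro ⟨q, h, hh, b, rfl⟩ e
    cases b
    · have : h = 1 := hf (by simpa [p2, pr] using e)
      exact Subtype.ext (by simp [pr, this])
    · exfalso
      have e1 : f h * d = 1 := e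
      have e2 : f h = d := by rw [eq_inv_of_mul_eq_one_left e1, inv_eq_of_mul_eq_one_right hd2]
      have h2 : h * h = 1 := hf (by rw [map_mul, map_one, e2, hd2])
      have hc : h * ⟨nP, nP_mem⟩ = ⟨nP, nP_mem⟩ * h := hf (by
        rw [map_mul, map_mul, e2]
        conv_rhs => rw [← hdn, mul_assoc, hd2, mul_one])
      exact hd1 (by rw [← e2, no_inner h h2 hc, map_one])
  have hr1 : p1.range = genGrp := by
    refine le_antisymm ?_ ((Subgroup.closure_le _).2 ?_)
    · rintro _ ⟨⟨q, h, hh, b, rfl⟩, rfl⟩
      have hmem : (h : Equiv.Perm GolayPt) ∈ genGrp := by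
        refine (show halfGrp ≤ genGrp.comap M24.subtype from (Subgroup.closure_le _).2 ?_) hh
        intro y hy
        simp only [Set.mem_insert_iff, Set.mem_singleton_iff] at hy
        rcases hy with rfl | rfl | rfl <;> exact Subgroup.subset_closure (by simp)
      cases b
      · simpa [p1, pr] using hmem
      · show (h : Equiv.Perm GolayPt) * dP ∈ genGrp
        exact mul_mem hmem (Subgroup.subset_closure (by simp))
    · intro y hy
      simp only [Set.mem_insert_iff, Set.mem_singleton_iff] at hy
      rcases hy with rfl | rfl | rfl | rfl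
      · exact ⟨⟨_, ⟨xP, xP_mem⟩, Subgroup.subset_closure (by simp), false, rfl⟩, by simp [p1, pr]⟩
      · exact ⟨⟨_, ⟨nP, nP_mem⟩, Subgroup.subset_closure (by simp), false, rfl⟩, by simp [p1, pr]⟩
      · exact ⟨⟨_, ⟨projInv, projInv_mem⟩, Subgroup.subset_closure (by simp), false, rfl⟩, by simp [p1, pr]⟩
      · exact ⟨⟨_, 1, one_mem _, true, rfl⟩, by simp [p1, pr]⟩
  obtain ⟨e⟩ := pgl_iso
  exact ⟨p2.range, ⟨(((MonoidHom.ofInjective inj2).symm.trans (MonoidHom.ofInjective inj1)).trans
    (MulEquiv.subgroupCongr hr1)).trans e⟩⟩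

end CfsgLib.JankoFourPGL
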